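import Groth.Agent.QfSlice.Gpd
import Groth.Agent.ASp.Glue
/-!
An etale chart of the space of isomorphisms between values of a chart, for an unramified diagonal.
-/

set_option autoImplicit false
set_option backward.isDefEq.respectTransparency false
set_option backward.isDefEq.respectTransparency.types false
set_option linter.unusedSectionVars false
set_option linter.style.haveILetI false

universe u

open CategoryTheory CategoryTheory.Limits AlgebraicGeometry Opposite

namespace Groth.Agent.DMSlice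

open Groth.Agent.ASt Groth.Agent.ASp Groth.Agent.KPointChart

variable {S : Scheme.{u}} {𝒳 : AlgSt.Cat S} [h𝒳 : FibCat.IsFibGrpd 𝒳.p] {U : Over S}

/-- An etale chart of the space of all isomorphisms between values of `a`. -/
structure IsoAtlas (a : FibCat.overCat U ⥤ᵇ 𝒳) where
  /-- the scheme -/
  R : Over S
  /-- the source -/
  s : R ⟶ U
  /-- the target -/
  t : R ⟶ U
  /-- the tautological isomorphism -/
  α : IsoG a s t
  cover : ∀ {Y : Over S} {l l' : Y ⟶ U} (β : IsoG a l l'),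
    ∃ (C : Over S) (d : C ⟶ Y) (r : C ⟶ R) (h : r ≫ s = d ≫ l) (h' : r ≫ t = d ≫ l'),
      Etale d.left ∧ Surjective d.left ∧ IsoG.res r h h' α = IsoG.res d rfl rfl β ∧
      (∀ {T : Over S} (k k' : T ⟶ C), k ≫ d = k' ≫ d → k ≫ r = k' ≫ r → k = k') ∧
      ∀ {T : Over S} (m : T ⟶ Y) (n : T ⟶ R) (e : n ≫ s = m ≫ l) (e' : n ≫ t = m ≫ l'),
        IsoG.res n e e' α = IsoG.res m rfl rfl β → ∃ k : T ⟶ C, k ≫ d = m ∧ k ≫ r = n
  unram : FormallyUnramified (pullback.lift (f := U.hom) (g := U.hom) s.left t.left ((Over.w s).trans (Over.w t).symm))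
  smooth_s : AlgSt.RepByAlgSpWith (AlgSp.LocP @Smooth) a → Smooth s.left

section

variable (a : FibCat.overCat U ⥤ᵇ 𝒳)

/-- The square of `U`. -/
noncomputable abbrev sq2 (U : Over S) : Over S := Over.mk (pullback.fst U.hom U.hom ≫ U.hom)

/-- The first projection. -/
noncomputable abbrev pr1 (U : Over S) : sq2 U ⟶ U := Over.homMk (pullback.fst U.hom U.hom) rfl

/-- The second projection. -/
noncomputable abbrev pr2 (U : Over S) : sq2 U ⟶ U := Over.homMk (pullback.snd U.hom U.hom) pullback.condition.symm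

/-- The pair of the two values. -/
noncomputable abbrev pairPt : FibCat.overCat (sq2 U) ⥤ᵇ FibCat.fp (FibCat.toSelf 𝒳) (FibCat.toSelf 𝒳) :=
  FibCat.fpLift (BasedFunctor.comp (AlgSt.overMap (pr1 U)) a) (BasedFunctor.comp (AlgSt.overMap (pr2 U)) a)
    (eqToIso ((comp_toSelf (BasedFunctor.comp (AlgSt.overMap (pr1 U)) a)).trans
      (comp_toSelf (BasedFunctor.comp (AlgSt.overMap (pr2 U)) a)).symm))

variable {a}

/-- The class of an isomorphism in the fibre of the diagonal. -/
noncomputable def relEl {T : Over S} (k : T ⟶ sq2 U) (β : IsoG a (k ≫ pr1 U) (k ≫ pr2 U)) :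
    ClType (FibCat.fp (pairPt a) (FibCat.diag (FibCat.toSelf 𝒳))) T :=
  fpEl k (a.obj (ov (k ≫ pr2 U))) (base_eq a (k ≫ pr2 U))
    (fpHomMk β.hom (𝟙 _) (by
      have h1 := fp_iso_map ((pairPt a).obj (ov k))
      have h2 := fp_iso_map ((FibCat.diag (FibCat.toSelf 𝒳)).obj (a.obj (ov (k ≫ pr2 U))))
      change ((pairPt a).obj (ov k)).obj.iso.hom = _ at h1
      change ((FibCat.diag (FibCat.toSelf 𝒳)).obj (a.obj (ov (k ≫ pr2 U)))).obj.iso.hom = _ at h2
      rw [h1, h2]
      change 𝒳.p.map _ ≫ _ = _ ≫ 𝒳.p.map _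
      rw [β.vert, CategoryTheory.Functor.map_id]
      simp
      exact (Category.comp_id _).symm))
    β.vert

theorem fpHom_relEl {T : Over S} (k : T ⟶ sq2 U) (β : IsoG a (k ≫ pr1 U) (k ≫ pr2 U)) :
    fpHom (relEl k β) = k :=
  fpHom_fpEl _ _ _ _ _

theorem clMap_relEl {T T' : Over S} {k : T ⟶ sq2 U} {k' : T' ⟶ sq2 U} (m : T' ⟶ T) (e : m ≫ k = k')
    (β : IsoG a (k ≫ pr1 U) (k ≫ pr2 U)) :
    clMap m (relEl k β) =
      relEl k' (IsoG.res m (by rw [← Category.assoc, e]) (by rw [← Category.assoc, e]) β) := by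
  subst e
  refine clMap_fpEl m rfl (a.map (ovHom m (Category.assoc m k (pr2 U)).symm)) (fp_hom_ext ?_ ?_)
  · exact (IsoG.res_comp m (Category.assoc m k (pr1 U)).symm (Category.assoc m k (pr2 U)).symm β).symm
  · exact (Category.comp_id _).trans (Category.id_comp _).symm

theorem relEl_eq {T : Over S} {k k' : T ⟶ sq2 U} {β : IsoG a (k ≫ pr1 U) (k ≫ pr2 U)}
    {β' : IsoG a (k' ≫ pr1 U) (k' ≫ pr2 U)} (e : relEl k β = relEl k' β') :
    ∃ h : k = k', IsoG.res (𝟙 T) (by rw [Category.id_comp, h]) (by rw [Category.id_comp, h]) β = β' := by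
  obtain rfl : k = k' := (fpHom_relEl k β).symm.trans ((congrArg fpHom e).trans (fpHom_relEl k' β'))
  refine ⟨rfl, ?_⟩
  obtain ⟨x, -, hx⟩ := fpEl_eq_iff.1 e
  have x2 : 𝟙 _ ≫ x = 𝟙 _ := congrArg (fun t => t.hom.snd) hx
  have x1 : β.hom ≫ x = β'.hom := congrArg (fun t => t.hom.fst) hx
  rw [show x = 𝟙 _ from (Category.id_comp x).symm.trans x2, Category.comp_id] at x1
  rw [IsoG.res_id]
  exact IsoG.ext x1

theorem exists_relEl {T : Over S} (c : ClType (FibCat.fp (pairPt a) (FibCat.diag (FibCat.toSelf 𝒳))) T) :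
    ∃ (k : T ⟶ sq2 U) (β : IsoG a (k ≫ pr1 U) (k ≫ pr2 U)), relEl k β = c := by
  obtain ⟨j, o, ho, φ, hφ, rfl⟩ := fpEl_exists c
  have hfst : 𝒳.p.map φ.hom.fst = eqToHom ((base_eq a (j ≫ pr1 U)).trans ho.symm) := hφ.trans rfl
  have hsnd : 𝒳.p.map φ.hom.snd = eqToHom ((base_eq a (j ≫ pr2 U)).trans ho.symm) := by
    have := fp_map_snd φ
    rw [this, hfst]
    simp
  haveI : IsIso φ.hom.snd := isIso_of_vert _ hsnd
  refine ⟨j, ⟨φ.hom.fst ≫ inv φ.hom.snd, by
    rw [Functor.map_comp, Functor.map_inv, hfst]; simp [hsnd]⟩, ?_⟩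
  refine fpEl_eq_iff.2 ⟨φ.hom.snd, hsnd.trans rfl, fp_hom_ext ?_ ?_⟩
  · exact (Category.assoc _ _ _).trans ((congrArg (φ.hom.fst ≫ ·) (IsIso.inv_hom_id _)).trans (Category.comp_id _))
  · exact Category.id_comp _

end

theorem toEl_congr_of {T : Over S} {a : FibCat.overCat U ⥤ᵇ 𝒳} {g g' h h' : T ⟶ U} {b : IsoG a g g'}
    {b' : IsoG a h h'} (e₁ : g = h) (e₂ : g' = h')
    (e : IsoG.res (𝟙 T) ((Category.id_comp g).trans e₁) ((Category.id_comp g').trans e₂) b = b') :
    toEl b = toEl b' := by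
  subst e₁ e₂
  rw [IsoG.res_id] at e
  rw [e]

/-- With unramified diagonal the isomorphisms have an etale chart. -/
theorem exists_isoAtlas (a : FibCat.overCat U ⥤ᵇ 𝒳)
    (hu : AlgSt.IsDMOver 𝒳) : Nonempty (IsoAtlas a) := by
  haveI : FibCat.IsFibGrpd (FibCat.fp (FibCat.toSelf 𝒳) (FibCat.toSelf 𝒳)).p := isFibGrpd_fp
  obtain ⟨hs, hA, hπ⟩ := (repByAlgSpWith_iff.1 hu).2 (sq2 U) (pairPt a)
  let F : AlgSp.Sp S := ⟨fib (pairPt a) (FibCat.diag (FibCat.toSelf 𝒳)), hs⟩
  let π : F ⟶ (AlgSp.yon S).obj (sq2 U) := ObjectProperty.homMk (fibπ (pairPt a) (FibCat.diag (FibCat.toSelf 𝒳)))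
  obtain ⟨B, c, hce, hcs⟩ := hA.atlas
  obtain ⟨j, β₀, hc⟩ := exists_relEl (secOf c : ClType (FibCat.fp (pairPt a) (FibCat.diag (FibCat.toSelf 𝒳))) B)
  have hcπ : c ≫ π = (AlgSp.yon S).map j := secOf_injective (by
    rw [secOf_comp]
    change (fibπ _ _).app (op B) _ = _
    rw [← hc, fibπ_app, fpHom_relEl]
    exact congrArg ULift.up (Category.id_comp j).symm)
  have hsec : ∀ {T : Over S} (m : T ⟶ B) (k : T ⟶ sq2 U) (e : m ≫ j = k),
      secOf ((AlgSp.yon S).map m ≫ c) =
        relEl k (IsoG.res m (by rw [← Category.assoc, e]) (by rw [← Category.assoc, e]) β₀) := fun m k e => by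
    rw [secOf_map, ← hc]
    exact clMap_relEl m e β₀
  refine ⟨⟨B, j ≫ pr1 U, j ≫ pr2 U, β₀, fun {Y l l'} β => ?_, ?_, fun ha => ?_⟩⟩
  · let k : Y ⟶ sq2 U := Over.homMk (pullback.lift l.left l'.left ((Over.w l).trans (Over.w l').symm)) (by
      show pullback.lift _ _ _ ≫ pullback.fst _ _ ≫ U.hom = Y.hom
      rw [pullback.lift_fst_assoc]
      exact Over.w l)
    have hk₁ : k ≫ pr1 U = l := Over.OverMorphism.ext (pullback.lift_fst _ _ _)
    have hk₂ : k ≫ pr2 U = l' := Over.OverMorphism.ext (pullback.lift_snd _ _ _)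
    clear_value k
    subst hk₁ hk₂
    let g : (AlgSp.yon S).obj Y ⟶ F := homOf (relEl k β)
    obtain ⟨C, r, d, hC⟩ := exists_isPullback_yon hce.1 g
    have hg : ∀ {T : Over S} (m : T ⟶ Y), secOf ((AlgSp.yon S).map m ≫ g) =
        relEl (m ≫ k) (IsoG.res m (Category.assoc _ _ _).symm (Category.assoc _ _ _).symm β) := fun m => by
      rw [secOf_map, secOf_homOf]
      exact clMap_relEl m rfl β
    obtain ⟨hrj, hres⟩ := relEl_eq ((hsec r _ rfl).symm.trans ((congrArg secOf hC.w).trans (hg d)))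
    refine ⟨C, d, r, by rw [← Category.assoc, hrj, Category.assoc], by rw [← Category.assoc, hrj, Category.assoc],
      hce.2 _ _ _ hC, hcs.2 _ _ _ hC, ?_, fun {T} k₁ k₂ h₁ h₂ => ?_, fun {T} m n e e' h => ?_⟩
    · have := congrArg (IsoG.res (𝟙 C) ((Category.id_comp _).trans (Category.assoc d k (pr1 U)))
        ((Category.id_comp _).trans (Category.assoc d k (pr2 U)))) hres
      simpa only [IsoG.res_res_eq (Category.id_comp _)] using this
    · refine (AlgSp.yon S).map_injective (hC.hom_ext ?_ ?_)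
      · rw [← Functor.map_comp, ← Functor.map_comp, h₂]
      · rw [← Functor.map_comp, ← Functor.map_comp, h₁]
    · have hnj : n ≫ j = m ≫ k := Over.OverMorphism.ext (pullback.hom_ext
        (by simpa [pr1] using congrArg (fun t => t.left) e) (by simpa [pr2] using congrArg (fun t => t.left) e'))
      obtain ⟨p, hp⟩ := (AlgSp.yon S).map_surjective (hC.lift ((AlgSp.yon S).map n) ((AlgSp.yon S).map m)
        (secOf_injective (by
          rw [hsec n _ hnj, hg]
          refine congrArg (relEl (m ≫ k)) ?_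
          have := congrArg (IsoG.res (𝟙 T) ((Category.id_comp _).trans (Category.assoc m k (pr1 U)).symm)
            ((Category.id_comp _).trans (Category.assoc m k (pr2 U)).symm)) h
          simpa only [IsoG.res_res_eq (Category.id_comp _)] using this)))
      exact ⟨p, (AlgSp.yon S).map_injective (by rw [Functor.map_comp, hp, hC.lift_snd]),
        (AlgSp.yon S).map_injective (by rw [Functor.map_comp, hp, hC.lift_fst])⟩
  · have hjl : pullback.lift (f := U.hom) (g := U.hom) (j ≫ pr1 U).left (j ≫ pr2 U).left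
        ((Over.w (j ≫ pr1 U)).trans (Over.w (j ≫ pr2 U)).symm) = j.left := by
      apply pullback.hom_ext <;> simp
    rw [hjl]
    exact (hπ c (𝟙 _) j hce (AlgSp.repWith_id _ _) (by rw [Category.comp_id]; exact hcπ)).2
  · obtain ⟨hs', hA', hπa⟩ := (repByAlgSpWith_iff.1 ha).2 U a
    let F' : AlgSp.Sp S := ⟨fib a a, hs'⟩
    let π' : F' ⟶ (AlgSp.yon S).obj U := ObjectProperty.homMk (fibπ a a)
    let Ψ : F ⟶ F' := ObjectProperty.homMk
      { app := fun T => ↾fun z => toEl (exists_relEl (U := U) (a := a) z).choose_spec.choose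
        naturality := fun T T' f => by
          ext z
          change toEl (exists_relEl (U := U) (a := a) (clMap f.unop z)).choose_spec.choose =
            clMap f.unop (toEl (exists_relEl (U := U) (a := a) z).choose_spec.choose)
          rw [clMap_toEl f.unop rfl rfl]
          have h2 := (exists_relEl (U := U) (a := a) (clMap f.unop z)).choose_spec.choose_spec
          have h3 := congrArg (clMap f.unop) (exists_relEl (U := U) (a := a) z).choose_spec.choose_spec
          rw [clMap_relEl f.unop rfl] at h3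
          obtain ⟨e, he⟩ := relEl_eq (h2.trans h3.symm)
          exact toEl_congr_of (congrArg (· ≫ pr1 U) e |>.trans (Category.assoc _ _ _))
            (congrArg (· ≫ pr2 U) e |>.trans (Category.assoc _ _ _)) (by
              have h5 := congrArg (IsoG.res (𝟙 _) ((Category.id_comp _).trans (Category.assoc f.unop _ (pr1 U)))
                ((Category.id_comp _).trans (Category.assoc f.unop _ (pr2 U)))) he
              simpa only [IsoG.res_res_eq (Category.id_comp _)] using h5) }
    have hΨ : ∀ {T : Over S} (k : T ⟶ sq2 U) (β : IsoG a (k ≫ pr1 U) (k ≫ pr2 U)),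
        Ψ.hom.app (op T) (relEl k β) = toEl β := fun {T} k β => by
      obtain ⟨e, he⟩ := relEl_eq (exists_relEl (U := U) (a := a) (relEl k β)).choose_spec.choose_spec
      exact toEl_congr_of (congrArg (· ≫ pr1 U) e) (congrArg (· ≫ pr2 U) e) he
    haveI : IsIso Ψ := by
      haveI : ∀ X, IsIso (Ψ.hom.app X) := fun ⟨T⟩ => by
        rw [isIso_iff_bijective]
        refine ⟨fun z z' h => ?_, fun z => ?_⟩
        · obtain ⟨k, β, rfl⟩ := exists_relEl (U := U) (a := a) z
          obtain ⟨k', β', rfl⟩ := exists_relEl (U := U) (a := a) z'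
          rw [hΨ, hΨ] at h
          obtain ⟨e₁, e₂, e₃⟩ := toEl_eq h
          obtain rfl : k = k' := Over.OverMorphism.ext (pullback.hom_ext
            (by simpa [pr1] using congrArg (fun t => t.left) e₁) (by simpa [pr2] using congrArg (fun t => t.left) e₂))
          rw [IsoG.res_id] at e₃
          rw [e₃]
        · obtain ⟨g, g', b, rfl⟩ := exists_toEl (x := a) z
          let k : T ⟶ sq2 U := Over.homMk (pullback.lift g.left g'.left ((Over.w g).trans (Over.w g').symm)) (by
            show pullback.lift _ _ _ ≫ pullback.fst _ _ ≫ U.hom = T.hom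
            rw [pullback.lift_fst_assoc]
            exact Over.w g)
          have hk₁ : k ≫ pr1 U = g := Over.OverMorphism.ext (pullback.lift_fst _ _ _)
          have hk₂ : k ≫ pr2 U = g' := Over.OverMorphism.ext (pullback.lift_snd _ _ _)
          clear_value k
          subst hk₁ hk₂
          exact ⟨relEl k b, hΨ k b⟩
      haveI : IsIso Ψ.hom := NatIso.isIso_of_isIso_app _
      haveI : IsIso ((sheafToPresheaf (AlgSp.J S) (Type (u + 1))).map Ψ) := ‹IsIso Ψ.hom›
      exact isIso_of_reflects_iso Ψ (sheafToPresheaf (AlgSp.J S) (Type (u + 1)))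
    refine hπa (c ≫ Ψ) (𝟙 _) (j ≫ pr1 U) (repWith_comp hce (repWith_of_isIso Ψ)) (AlgSp.repWith_id _ _) ?_
    rw [Category.comp_id]
    refine secOf_injective ?_
    rw [secOf_comp, secOf_comp, ← hc, hΨ]
    change (⟨fpHom (toEl β₀)⟩ : ULift _) = ⟨𝟙 _ ≫ j ≫ pr1 U⟩
    rw [fpHom_toEl, Category.id_comp]

end Groth.Agent.DMSlice
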