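import Groth.Agent.DMSlice.Slice
import Groth.Agent.QfSlice.Cover
import Mathlib.AlgebraicGeometry.Morphisms.LocalFlatDescent
/-!
An algebraic stack with unramified diagonal has an etale scheme cover.
-/

set_option autoImplicit false
set_option backward.isDefEq.respectTransparency false
set_option backward.isDefEq.respectTransparency.types false
set_option linter.unusedSectionVars false
set_option linter.style.haveILetI false

universe u

open CategoryTheory CategoryTheory.Limits AlgebraicGeometry Opposite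

namespace Groth.Agent.DMSlice

open Groth.Agent.ASt Groth.Agent.ASp Groth.Agent.KPointChart Groth.Agent.QfSlice

variable {S : Scheme.{u}} {𝒳 : AlgSt.Cat S} [h𝒳 : FibCat.IsFibGrpd 𝒳.p] {U Z : Over S}
  {a : FibCat.overCat U ⥤ᵇ 𝒳} {q : Z ⟶ U}

/-- The restricted chart over the chart has an etale chart by the pullback of the atlas of isomorphisms. -/
theorem fibHas_restricted (D : IsoAtlas a) {M : MorphismProperty Scheme.{u}} [IsEtLocal M]
    (hc : AlgSt.RepByAlgSp1 (BasedFunctor.comp (AlgSt.overMap q) a))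
    (h : M (pullback.snd q D.s ≫ D.t).left) :
    FibHas (AlgSp.LocP M) a (BasedFunctor.comp (AlgSt.overMap q) a) := by
  obtain ⟨hs, hA⟩ := (repByAlgSp1_iff.1 hc).2 U a
  let F : AlgSp.Sp S := ⟨fib a (BasedFunctor.comp (AlgSt.overMap q) a), hs⟩
  let C₀ : Over S := pullback q D.s
  let z₀ : C₀ ⟶ Z := pullback.fst q D.s
  let r₀ : C₀ ⟶ D.R := pullback.snd q D.s
  have hc₀ : r₀ ≫ D.s = z₀ ≫ q := pullback.condition.symm
  let b₀ : IsoG a (r₀ ≫ D.t) (z₀ ≫ q) := IsoG.res r₀ rfl hc₀ D.α.symm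
  let θ : (AlgSp.yon S).obj C₀ ⟶ F := homOf (toQ b₀)
  have hmain : ∀ {T : Over S} (g : (AlgSp.yon S).obj T ⟶ F) {W : Over S} (x : (AlgSp.yon S).obj W ⟶ (AlgSp.yon S).obj C₀)
      (d' : W ⟶ T), IsPullback x ((AlgSp.yon S).map d') θ g → Etale d'.left ∧ Surjective d'.left := by
    intro T g W x d' hW
    obtain ⟨c', rfl⟩ := (AlgSp.yon S).map_surjective x
    obtain ⟨g₀, z, b, hb⟩ := exists_toQ (secOf g : ClType (FibCat.fp a (BasedFunctor.comp (AlgSt.overMap q) a)) T)
    have hθ : ∀ {T' : Over S} (m : T' ⟶ C₀), secOf ((AlgSp.yon S).map m ≫ θ) =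
        toQ (IsoG.res m rfl (Category.assoc m z₀ q).symm b₀) := fun m => by
      rw [secOf_map, secOf_homOf]
      exact clMap_toQ m rfl rfl (Category.assoc _ _ _).symm b₀
    have hg : ∀ {T' : Over S} (m : T' ⟶ T), secOf ((AlgSp.yon S).map m ≫ g) =
        toQ (IsoG.res m rfl (Category.assoc m z q).symm b) := fun m => by
      rw [secOf_map, ← hb]
      exact clMap_toQ m rfl rfl (Category.assoc _ _ _).symm b
    obtain ⟨C, d, r, h, h', hd, hds, hres, hext, hlift⟩ := D.cover b.symm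
    -- from the pullback to the chart
    obtain ⟨e₁, e₂, e₃⟩ := toQ_eq ((hθ c').symm.trans ((congrArg secOf hW.w).trans (hg d')))
    have s₁ : (c' ≫ r₀) ≫ D.s = d' ≫ z ≫ q := by
      rw [Category.assoc, hc₀, ← Category.assoc, e₂, Category.assoc]
    have s₂ : (c' ≫ r₀) ≫ D.t = d' ≫ g₀ := by rw [Category.assoc]; exact e₁
    have hss : ∀ {T' : Over S} {p p' : T' ⟶ U} (b : IsoG a p p'), b.symm.symm = b := fun b =>
      IsoG.ext (by simp [IsoG.symm])
    obtain ⟨k, hk₁, hk₂⟩ := hlift d' (c' ≫ r₀) s₁ s₂ (by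
      rw [IsoG.res_res_eq (Category.id_comp c') _ _ rfl (Category.assoc _ _ _).symm b₀,
        IsoG.res_res_eq rfl _ _ rfl hc₀ D.α.symm, IsoG.res_symm (c' ≫ r₀)] at e₃
      have e₅ := congrArg IsoG.symm e₃
      rw [hss, ← IsoG.res_symm d'] at e₅
      have e₆ := congrArg (IsoG.res (𝟙 W) ((Category.id_comp _).trans (Category.assoc d' z q))
        (Category.id_comp _)) e₅
      rw [IsoG.res_res_eq (Category.id_comp (c' ≫ r₀)), IsoG.res_res_eq (Category.id_comp d')] at e₆
      exact e₆)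
    -- from the chart to the pullback
    let c : C ⟶ C₀ := pullback.lift (d ≫ z) r (by rw [h, Category.assoc])
    have hc₁ : c ≫ z₀ = d ≫ z := pullback.lift_fst _ _ _
    have hc₂ : c ≫ r₀ = r := pullback.lift_snd _ _ _
    have w : (AlgSp.yon S).map c ≫ θ = (AlgSp.yon S).map d ≫ g := secOf_injective (by
      rw [secOf_map, secOf_homOf, hg]
      have t₁ : c ≫ r₀ ≫ D.t = d ≫ g₀ := by rw [← Category.assoc, hc₂, h']
      have t₂ : c ≫ z₀ ≫ q = (d ≫ z) ≫ q := by rw [← Category.assoc, hc₁]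
      refine (clMap_toQ c t₁ hc₁ t₂ b₀).trans (congrArg toQ ?_)
      rw [IsoG.res_res_eq hc₂ _ _ rfl hc₀ D.α.symm, IsoG.res_symm r]
      have e₇ := congrArg (IsoG.res (𝟙 C) ((Category.id_comp _).trans (Category.assoc d z q).symm)
        (Category.id_comp _)) hres
      rw [IsoG.res_res_eq (Category.id_comp r), IsoG.res_res_eq (Category.id_comp d), IsoG.res_symm d] at e₇
      exact (congrArg IsoG.symm e₇).trans (hss _))
    obtain ⟨k', hk'⟩ := (AlgSp.yon S).map_surjective (hW.lift _ _ w)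
    have hk'₁ : k' ≫ d' = d := (AlgSp.yon S).map_injective (by rw [Functor.map_comp, hk', hW.lift_snd])
    have hk'₂ : k' ≫ c' = c := (AlgSp.yon S).map_injective (by rw [Functor.map_comp, hk', hW.lift_fst])
    have hkc : k ≫ c = c' := pullback.hom_ext
      (by rw [Category.assoc, hc₁, ← Category.assoc, hk₁]; exact e₂.symm)
      (by rw [Category.assoc, hc₂, hk₂])
    haveI : IsIso k := ⟨k', (AlgSp.yon S).map_injective (hW.hom_ext
        (by rw [← Functor.map_comp, ← Functor.map_comp, Category.assoc, hk'₂, hkc, Category.id_comp])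
        (by rw [← Functor.map_comp, ← Functor.map_comp, Category.assoc, hk'₁, hk₁, Category.id_comp])),
      hext _ _ (by rw [Category.assoc, hk₁, hk'₁, Category.id_comp])
        (by rw [Category.assoc, hk₂, ← Category.assoc, hk'₂, hc₂, Category.id_comp])⟩
    haveI : IsIso k.left := inferInstanceAs (IsIso ((Over.forget S).map k))
    rw [← hk₁, Over.comp_left]
    haveI := hd
    haveI := hds
    exact ⟨inferInstance, inferInstance⟩
  have hrep : AlgSp.Representable θ := (show AlgSp.IsAlgSpace F from hA).representable_from_yon _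
  have hθe : AlgSp.RepWith @Etale θ := ⟨hrep, fun T W g x d' sq => (hmain g x d' sq).1⟩
  have hθs : AlgSp.RepWith @Surjective θ := ⟨hrep, fun T W g x d' sq => (hmain g x d' sq).2⟩
  let π : F ⟶ (AlgSp.yon S).obj U := ObjectProperty.homMk (fibπ a (BasedFunctor.comp (AlgSt.overMap q) a))
  have e : θ ≫ π = (AlgSp.yon S).map (r₀ ≫ D.t) ≫ 𝟙 _ := secOf_injective (by
    rw [Category.comp_id, secOf_comp, secOf_homOf]
    change (⟨fpHom (toQ b₀)⟩ : ULift _) = ⟨𝟙 _ ≫ r₀ ≫ D.t⟩
    rw [fpHom_toQ, Category.id_comp])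
  exact ⟨hs, hA, ASp.locP_of_chart hθe hθs (AlgSp.repWith_id _ U) e h⟩

/-- A stack with unramified diagonal has an etale cover. -/
theorem exists_cover (hΔ : AlgSt.RepByAlgSp1 (FibCat.diag (FibCat.toSelf 𝒳)))
    (hat : AlgSt.HasAtlas (AlgSp.LocP @Smooth) 𝒳) (hu : AlgSt.IsDMOver 𝒳) :
    ∃ (W : Over S) (w : FibCat.overCat W ⥤ᵇ 𝒳),
      AlgSt.RepByAlgSpWith (AlgSp.LocP @Etale) w ∧ AlgSt.RepByAlgSpWith AlgSp.IsSurjectiveMor w := by
  obtain ⟨U, a, ha, has⟩ := hat
  obtain ⟨D⟩ := exists_isoAtlas a hu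
  haveI : Smooth D.s.left := D.smooth_s ha
  haveI : Smooth D.t.left := isoAtlas_smooth_t D ha
  obtain ⟨Z₀, q, het, hsu⟩ := exists_slice D
  let c := BasedFunctor.comp (AlgSt.overMap q) a
  have hc : AlgSt.RepByAlgSp1 c := repByAlgSp1_of_diag hΔ c
  refine ⟨Z₀, c, repByAlgSpWith_iff.2 ⟨faithful_of_repByAlgSp1 hc, fun T y => ?_⟩,
    repByAlgSpWith_surjective_of_isSurjective hc ?_⟩
  · obtain ⟨V, l, u, hl, hls, ⟨β⟩⟩ := exists_overMap_iso ha has y
    have h0 : FibHas (AlgSp.LocP @Etale) a c := fibHas_restricted D hc het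
    exact fibHas_of_cover DecSec.isLocalOnBase_fppf_locP hc l y (fibHas_congr β.symm (fibHas_restr
      (fun _ _ _ _ h₁ h₂ _ h₄ _ _ _ _ sq h => locP_of_isPullback sq.flip h₁ h₂ h₄ h) hc u a h0))
  intro p
  obtain ⟨w, rfl⟩ := isSurjective_of_repByAlgSpWith has p
  obtain ⟨t, rfl⟩ := (schemePts U).surjective w
  obtain ⟨x, rfl⟩ := hsu.surj t
  refine ⟨schemePts Z₀ ((pullback.fst q D.s).left x), ?_⟩
  have γ : BasedFunctor.comp (AlgSt.overMap D.s) a ≅ BasedFunctor.comp (AlgSt.overMap D.t) a :=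
    funIso (IsoG.res (𝟙 D.R) (rfl : 𝟙 D.R ≫ D.s = _) rfl D.α).hom (IsoG.res (𝟙 D.R) rfl rfl D.α).vert
  have h1 := map_congr γ (schemePts D.R ((pullback.snd q D.s).left x))
  rw [map_schemePts, map_schemePts, ofChart_overMap, ofChart_overMap] at h1
  rw [map_schemePts, map_schemePts]
  refine (ofChart_overMap q a _).trans (Eq.trans ?_ h1)
  rw [← Scheme.Hom.comp_apply, ← Scheme.Hom.comp_apply, ← Over.comp_left, ← Over.comp_left, pullback.condition]

end Groth.Agent.DMSlice
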