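import Groth.Agent.DMSlice.Transl
import Groth.Agent.Boot.EtAt
import Groth.Agent.Boot.Helpers
/-!
The etale locus of coordinates on a chart of isomorphisms is saturated.
-/

set_option autoImplicit false
set_option backward.isDefEq.respectTransparency false
set_option backward.isDefEq.respectTransparency.types false
set_option linter.unusedSectionVars false

universe u

open CategoryTheory CategoryTheory.Limits AlgebraicGeometry Opposite

namespace Groth.Agent.DMSlice

open Groth.Agent.ASt Groth.Agent.ASp Groth.Agent.KPointChart Groth.Agent.Boot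

variable {S : Scheme.{u}} {𝒳 : AlgSt.Cat S} [h𝒳 : FibCat.IsFibGrpd 𝒳.p] {U : Over S}
  {a : FibCat.overCat U ⥤ᵇ 𝒳}

/-- The locus where the coordinates are etale is saturated. -/
theorem etAt_saturated (D : IsoAtlas a) {W RW : Over S} {ιW : W ⟶ U} {j : RW ⟶ D.R} {sW : RW ⟶ W}
    (sq : IsPullback j sW D.s ιW) {tW : RW ⟶ U} (htW : j ≫ D.t = tW)
    [Smooth sW.left] [Smooth tW.left] {d : ℕ} (a' : W.left ⟶ AS d S)
    (φ : RW.left ⟶ pullback U.hom (AS d S ↘ S))
    (hφ₁ : φ ≫ pullback.fst _ _ = tW.left) (hφ₂ : φ ≫ pullback.snd _ _ = sW.left ≫ a')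
    (ha : a' ≫ AS d S ↘ S = W.hom)
    (r₁ r₂ : ↥RW.left) (hr : sW.left r₁ = sW.left r₂) (h : EtAt φ r₁) : EtAt φ r₂ := by
  let Z : Over S := pullback sW sW
  let z₁ : Z ⟶ RW := pullback.fst sW sW
  let z₂ : Z ⟶ RW := pullback.snd sW sW
  have hsqZ := isPullback_left (IsPullback.of_hasPullback sW sW)
  haveI hz₁ : Smooth z₁.left := MorphismProperty.of_isPullback hsqZ.flip ‹Smooth sW.left›
  haveI hz₂ : Smooth z₂.left := MorphismProperty.of_isPullback hsqZ ‹Smooth sW.left›
  obtain ⟨z, hzr₁, hzr₂⟩ : ∃ z : ↥Z.left, z₁.left z = r₁ ∧ z₂.left z = r₂ := by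
    obtain ⟨w, hw₁, hw₂⟩ := Scheme.Pullback.exists_preimage_pullback r₁ r₂ hr
    refine ⟨hsqZ.isoPullback.inv w, ?_, ?_⟩
    · rw [← Scheme.Hom.comp_apply, IsPullback.isoPullback_inv_fst]; exact hw₁
    · rw [← Scheme.Hom.comp_apply, IsPullback.isoPullback_inv_snd]; exact hw₂
  have hz : z₁ ≫ sW = z₂ ≫ sW := pullback.condition
  let ξ := z₁ ≫ tW
  let ξ' := z₂ ≫ tW
  have a₁ : (z₁ ≫ j) ≫ D.s = (z₁ ≫ sW) ≫ ιW := by simp only [Category.assoc, sq.w]
  have a₂ : (z₁ ≫ j) ≫ D.t = ξ := by rw [Category.assoc, htW]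
  have b₁ : (z₂ ≫ j) ≫ D.s = (z₁ ≫ sW) ≫ ιW := by rw [hz]; simp only [Category.assoc, sq.w]
  have b₂ : (z₂ ≫ j) ≫ D.t = ξ' := by rw [Category.assoc, htW]
  let A := IsoG.res (z₁ ≫ j) a₁ a₂ D.α
  let B := IsoG.res (z₂ ≫ j) b₁ b₂ D.α
  let γ : IsoG a ξ ξ' := A.symm.trans B
  obtain ⟨C, dC, eC, hd, he, hes, hes', hlift⟩ := exists_transl D sq htW γ
  let σ : Z ⟶ pullback tW ξ := pullback.lift z₁ (𝟙 Z) (Category.id_comp _).symm
  have hσ₁ : σ ≫ pullback.fst tW ξ = z₁ := pullback.lift_fst _ _ _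
  have hσ₂ : σ ≫ pullback.snd tW ξ = 𝟙 Z := pullback.lift_snd _ _ _
  have p₁ : σ ≫ (pullback.fst tW ξ ≫ sW) ≫ ιW = (z₁ ≫ sW) ≫ ιW := by
    rw [← Category.assoc, ← Category.assoc, hσ₁]
  have p₂ : σ ≫ pullback.snd tW ξ ≫ ξ' = ξ' := by rw [reassoc_of% hσ₂]
  have key : IsoG.res σ p₁ p₂ (tr D sq htW γ) = B := by
    rw [res_tr D sq htW γ σ p₁ p₂ (show σ ≫ pullback.snd tW ξ ≫ ξ = ξ by rw [reassoc_of% hσ₂]),
      IsoG.res_congr (show σ ≫ pullback.fst tW ξ ≫ j = z₁ ≫ j by rw [← Category.assoc, hσ₁]) _ _ D.α,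
      IsoG.res_congr hσ₂ _ _ γ, IsoG.res_id]
    change A.trans (A.symm.trans B) = B
    rw [← IsoG.trans_assoc, IsoG.trans_symm, IsoG.refl_trans]
  have key' := congrArg (IsoG.res (𝟙 Z) ((Category.id_comp _).trans p₁.symm)
    ((Category.id_comp _).trans p₂.symm)) key
  rw [IsoG.res_res_eq (Category.id_comp σ), IsoG.res_res_eq (Category.id_comp (z₂ ≫ j))] at key'
  obtain ⟨k₀, hk₁, hk₂⟩ := hlift σ (z₂ ≫ j) (b₁.trans p₁.symm) (b₂.trans p₂.symm) key'.symm
  have hk₂' : k₀ ≫ eC ≫ pullback.fst tW ξ' = z₂ := sq.hom_ext (by simp only [Category.assoc]; exact hk₂)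
    (by simp only [Category.assoc]; rw [hes', reassoc_of% hk₁, reassoc_of% hσ₁, hz])
  -- the coordinates on the two fibres
  let φk : ∀ η : Z ⟶ U, (pullback tW η).left ⟶ pullback Z.hom (AS d S ↘ S) := fun η =>
    pullback.lift (pullback.snd tW η).left ((pullback.fst tW η ≫ sW).left ≫ a')
      (by rw [Category.assoc, ha, Over.w, Over.w])
  have main : ∀ η : Z ⟶ U, Smooth η.left → ∀ x, EtAt (φk η) x ↔ EtAt φ ((pullback.fst tW η).left x) := by
    intro η hη
    let m : pullback Z.hom (AS d S ↘ S) ⟶ pullback U.hom (AS d S ↘ S) :=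
      pullback.map _ _ _ _ η.left (𝟙 _) (𝟙 S) (by simp) (by simp)
    have sqm : IsPullback m (pullback.fst Z.hom (AS d S ↘ S)) (pullback.fst U.hom (AS d S ↘ S)) η.left := by
      refine IsPullback.of_right ?_ (by simp [m, pullback.map])
        (IsPullback.of_hasPullback U.hom (AS d S ↘ S)).flip
      rw [show m ≫ pullback.snd U.hom (AS d S ↘ S) = pullback.snd _ _ by simp [m, pullback.map], Over.w]
      exact (IsPullback.of_hasPullback Z.hom (AS d S ↘ S)).flip
    haveI : Smooth m := MorphismProperty.of_isPullback (P := @Smooth) sqm.flip hη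
    have sqk := isPullback_left (IsPullback.of_hasPullback tW η)
    have sqφ : IsPullback (pullback.fst tW η).left (φk η) φ m := by
      refine IsPullback.of_bot (h₃₁ := η.left) (v₂₁ := pullback.fst Z.hom (AS d S ↘ S))
        (v₂₂ := pullback.fst U.hom (AS d S ↘ S)) ?_ ?_ sqm
      · rw [show φk η ≫ pullback.fst Z.hom (AS d S ↘ S) = (pullback.snd tW η).left from pullback.lift_fst _ _ _,
          hφ₁]
        exact sqk
      · apply pullback.hom_ext
        · simp only [Category.assoc, hφ₁, φk, m, pullback.map, pullback.lift_fst, pullback.lift_fst_assoc]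
          exact sqk.w
        · simp only [Category.assoc, hφ₂, φk, m, pullback.map, pullback.lift_snd, pullback.lift_snd_assoc,
            Category.comp_id]
          rw [Over.comp_left, Category.assoc]
    exact fun x => etAt_iff_of_isPullback sqφ x
  have hcomm : dC.left ≫ φk ξ = eC.left ≫ φk ξ' := by
    apply pullback.hom_ext
    · simp only [Category.assoc, φk, pullback.lift_fst]
      rw [← Over.comp_left, ← Over.comp_left, hes]
    · simp only [Category.assoc, φk, pullback.lift_snd]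
      rw [← Category.assoc, ← Category.assoc eC.left, ← Over.comp_left, ← Over.comp_left, hes']
  haveI := hd
  haveI := he
  have q₁ : (pullback.fst tW ξ).left (dC.left (k₀.left z)) = r₁ := by
    rw [← hzr₁, ← Scheme.Hom.comp_apply, ← Scheme.Hom.comp_apply, ← Over.comp_left, ← Over.comp_left,
      reassoc_of% hk₁, hσ₁]
  have q₂ : (pullback.fst tW ξ').left (eC.left (k₀.left z)) = r₂ := by
    rw [← hzr₂, ← Scheme.Hom.comp_apply, ← Scheme.Hom.comp_apply, ← Over.comp_left, ← Over.comp_left, hk₂']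
  rw [← q₁, ← main ξ (inferInstanceAs (Smooth (z₁.left ≫ tW.left))), ← etAt_comp_iff, hcomm, etAt_comp_iff,
    main ξ' (inferInstanceAs (Smooth (z₂.left ≫ tW.left))), q₂] at h
  exact h

end Groth.Agent.DMSlice
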