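import Groth.Agent.DMSlice.Atlas
import Groth.Agent.Boot.Helpers
import Groth.Agent.ASp.Smooth
/-!
Translations between the fibres of the target of an etale chart of isomorphisms.
-/

set_option autoImplicit false
set_option backward.isDefEq.respectTransparency false
set_option backward.isDefEq.respectTransparency.types false
set_option linter.unusedSectionVars false
set_option linter.style.haveILetI false

universe u

open CategoryTheory CategoryTheory.Limits AlgebraicGeometry Opposite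

namespace Groth.Agent.DMSlice

open Groth.Agent.ASt Groth.Agent.ASp Groth.Agent.KPointChart

variable {S : Scheme.{u}} {𝒳 : AlgSt.Cat S} [h𝒳 : FibCat.IsFibGrpd 𝒳.p] {U : Over S}
  {a : FibCat.overCat U ⥤ᵇ 𝒳} (D : IsoAtlas a) {W RW Z : Over S} {ιW : W ⟶ U} {j : RW ⟶ D.R} {sW : RW ⟶ W}
  (sq : IsPullback j sW D.s ιW) {tW : RW ⟶ U} (htW : j ≫ D.t = tW)

/-- The chart isomorphism composed with an isomorphism of two points, on a fibre of the target. -/
noncomputable def tr {ξ ξ' : Z ⟶ U} (γ : IsoG a ξ ξ') :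
    IsoG a ((pullback.fst tW ξ ≫ sW) ≫ ιW) (pullback.snd tW ξ ≫ ξ') :=
  (IsoG.res (pullback.fst tW ξ ≫ j) (show _ = (pullback.fst tW ξ ≫ sW) ≫ ιW by simp only [Category.assoc, sq.w])
    (show _ = pullback.snd tW ξ ≫ ξ by rw [Category.assoc, htW, pullback.condition]) D.α).trans
    (IsoG.res (pullback.snd tW ξ) rfl rfl γ)

theorem res_tr {T : Over S} {ξ ξ' : Z ⟶ U} (γ : IsoG a ξ ξ') (m : T ⟶ pullback tW ξ) {l l'' l' : T ⟶ U}
    (e : m ≫ (pullback.fst tW ξ ≫ sW) ≫ ιW = l) (e' : m ≫ pullback.snd tW ξ ≫ ξ' = l')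
    (e'' : m ≫ pullback.snd tW ξ ≫ ξ = l'') :
    IsoG.res m e e' (tr D sq htW γ) =
      (IsoG.res (m ≫ pullback.fst tW ξ ≫ j) (by rw [← e]; simp only [Category.assoc, sq.w])
        (by rw [← e'', Category.assoc, Category.assoc, htW, pullback.condition]) D.α).trans
        (IsoG.res (m ≫ pullback.snd tW ξ) ((Category.assoc _ _ _).trans e'') ((Category.assoc _ _ _).trans e') γ) := by
  rw [tr, IsoG.res_trans m e e'' e', IsoG.res_res_eq rfl _ _ _ _ D.α, IsoG.res_res_eq rfl _ _ rfl rfl γ]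

theorem exists_half {ξ ξ' : Z ⟶ U} (γ : IsoG a ξ ξ') :
    ∃ (C : Over S) (d : C ⟶ pullback tW ξ) (e : C ⟶ pullback tW ξ'),
      Etale d.left ∧ Surjective d.left ∧ e ≫ pullback.snd tW ξ' = d ≫ pullback.snd tW ξ ∧
      e ≫ pullback.fst tW ξ' ≫ sW = d ≫ pullback.fst tW ξ ≫ sW ∧
      (∃ (h₁ : (e ≫ pullback.fst tW ξ' ≫ j) ≫ D.s = d ≫ (pullback.fst tW ξ ≫ sW) ≫ ιW)
          (h₂ : (e ≫ pullback.fst tW ξ' ≫ j) ≫ D.t = d ≫ pullback.snd tW ξ ≫ ξ'),
        IsoG.res (e ≫ pullback.fst tW ξ' ≫ j) h₁ h₂ D.α = IsoG.res d rfl rfl (tr D sq htW γ)) ∧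
      (∀ {T : Over S} (k k' : T ⟶ C), k ≫ d = k' ≫ d →
        k ≫ e ≫ pullback.fst tW ξ' ≫ j = k' ≫ e ≫ pullback.fst tW ξ' ≫ j → k = k') ∧
      ∀ {T : Over S} (m : T ⟶ pullback tW ξ) (n : T ⟶ D.R)
        (g : n ≫ D.s = m ≫ (pullback.fst tW ξ ≫ sW) ≫ ιW) (g' : n ≫ D.t = m ≫ pullback.snd tW ξ ≫ ξ'),
        IsoG.res n g g' D.α = IsoG.res m rfl rfl (tr D sq htW γ) →
          ∃ k : T ⟶ C, k ≫ d = m ∧ k ≫ e ≫ pullback.fst tW ξ' ≫ j = n := by
  obtain ⟨C, d, r, h, h', hd, hds, hres, hext, hlift⟩ := D.cover (tr D sq htW γ)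
  let p := sq.lift r (d ≫ pullback.fst tW ξ ≫ sW) (by rw [h]; simp only [Category.assoc])
  have hp₁ : p ≫ j = r := sq.lift_fst _ _ _
  have hp₂ : p ≫ sW = d ≫ pullback.fst tW ξ ≫ sW := sq.lift_snd _ _ _
  let e : C ⟶ pullback tW ξ' := pullback.lift p (d ≫ pullback.snd tW ξ)
    ((congrArg (p ≫ ·) htW.symm).trans ((Category.assoc p j D.t).symm.trans ((congrArg (· ≫ D.t) hp₁).trans
      (h'.trans (Category.assoc _ _ _).symm))))
  have he₁ : e ≫ pullback.fst tW ξ' = p := pullback.lift_fst _ _ _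
  have he : e ≫ pullback.fst tW ξ' ≫ j = r := by rw [← Category.assoc, he₁, hp₁]
  exact ⟨C, d, e, hd, hds, pullback.lift_snd _ _ _, by rw [← Category.assoc, he₁, hp₂],
    ⟨by rw [he, h], by rw [he, h'], (IsoG.res_congr he _ _ D.α).trans hres⟩,
    fun k k' e₁ e₂ => hext k k' e₁ (by rwa [he] at e₂), fun m n g g' hh => by
      obtain ⟨k, hk₁, hk₂⟩ := hlift m n g g' hh
      exact ⟨k, hk₁, by rw [he, hk₂]⟩⟩

theorem exists_mid {ξ ξ' : Z ⟶ U} (γ : IsoG a ξ ξ') {C C' : Over S} (d : C ⟶ pullback tW ξ)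
    (e : C ⟶ pullback tW ξ') (hes : e ≫ pullback.snd tW ξ' = d ≫ pullback.snd tW ξ)
    (hes' : e ≫ pullback.fst tW ξ' ≫ sW = d ≫ pullback.fst tW ξ ≫ sW)
    {h₁ : (e ≫ pullback.fst tW ξ' ≫ j) ≫ D.s = d ≫ (pullback.fst tW ξ ≫ sW) ≫ ιW}
    {h₂ : (e ≫ pullback.fst tW ξ' ≫ j) ≫ D.t = d ≫ pullback.snd tW ξ ≫ ξ'}
    (hres : IsoG.res (e ≫ pullback.fst tW ξ' ≫ j) h₁ h₂ D.α = IsoG.res d rfl rfl (tr D sq htW γ))
    (d' : C' ⟶ pullback tW ξ') (e' : C' ⟶ pullback tW ξ)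
    (hlift : ∀ {T : Over S} (m : T ⟶ pullback tW ξ') (n : T ⟶ D.R)
        (g : n ≫ D.s = m ≫ (pullback.fst tW ξ' ≫ sW) ≫ ιW) (g' : n ≫ D.t = m ≫ pullback.snd tW ξ' ≫ ξ),
        IsoG.res n g g' D.α = IsoG.res m rfl rfl (tr D sq htW γ.symm) →
          ∃ k : T ⟶ C', k ≫ d' = m ∧ k ≫ e' ≫ pullback.fst tW ξ ≫ j = n) :
    ∃ k : C ⟶ C', k ≫ d' = e ∧ k ≫ e' ≫ pullback.fst tW ξ ≫ j = d ≫ pullback.fst tW ξ ≫ j := by
  have a₁ : (d ≫ pullback.fst tW ξ ≫ j) ≫ D.s = e ≫ (pullback.fst tW ξ' ≫ sW) ≫ ιW := by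
    simp only [Category.assoc, sq.w]
    simp only [← Category.assoc] at hes' ⊢
    rw [hes']
  have a₂ : (d ≫ pullback.fst tW ξ ≫ j) ≫ D.t = e ≫ pullback.snd tW ξ' ≫ ξ := by
    rw [Category.assoc, Category.assoc, htW, pullback.condition, reassoc_of% hes]
  refine hlift e _ a₁ a₂ ?_
  rw [res_tr D sq htW γ.symm e rfl rfl (l'' := e ≫ pullback.snd tW ξ' ≫ ξ') rfl]
  have b₁ : d ≫ (pullback.fst tW ξ ≫ sW) ≫ ιW = e ≫ (pullback.fst tW ξ' ≫ sW) ≫ ιW := by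
    simp only [← Category.assoc] at hes' ⊢
    rw [hes']
  have b₂ : d ≫ pullback.snd tW ξ ≫ ξ' = e ≫ pullback.snd tW ξ' ≫ ξ' := by rw [reassoc_of% hes]
  have key := congrArg (IsoG.res (𝟙 C) ((Category.id_comp _).trans b₁) ((Category.id_comp _).trans b₂)) hres
  rw [IsoG.res_res_eq (Category.id_comp _), IsoG.res_res_eq (Category.id_comp _)] at key
  rw [key, res_tr D sq htW γ d b₁ b₂
    (show d ≫ pullback.snd tW ξ ≫ ξ = e ≫ pullback.snd tW ξ' ≫ ξ by rw [reassoc_of% hes]),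
    IsoG.res_symm (e ≫ pullback.snd tW ξ') (Category.assoc _ _ _) (Category.assoc _ _ _) γ,
    IsoG.res_congr hes _ _ γ, IsoG.trans_assoc, IsoG.trans_symm, IsoG.trans_refl]

/-- Fibres of the target over isomorphic points have a common etale chart. -/
theorem exists_transl {ξ ξ' : Z ⟶ U} (γ : IsoG a ξ ξ') :
    ∃ (C : Over S) (d : C ⟶ pullback tW ξ) (e : C ⟶ pullback tW ξ'),
      Etale d.left ∧ Etale e.left ∧ e ≫ pullback.snd tW ξ' = d ≫ pullback.snd tW ξ ∧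
      e ≫ pullback.fst tW ξ' ≫ sW = d ≫ pullback.fst tW ξ ≫ sW ∧
      ∀ {T : Over S} (m : T ⟶ pullback tW ξ) (n : T ⟶ D.R)
        (g : n ≫ D.s = m ≫ (pullback.fst tW ξ ≫ sW) ≫ ιW) (g' : n ≫ D.t = m ≫ pullback.snd tW ξ ≫ ξ'),
        IsoG.res n g g' D.α = IsoG.res m rfl rfl (tr D sq htW γ) →
          ∃ k : T ⟶ C, k ≫ d = m ∧ k ≫ e ≫ pullback.fst tW ξ' ≫ j = n := by
  obtain ⟨C, d, e, hd, -, hes, hes', ⟨h₁, h₂, hres⟩, hext, hlift⟩ := exists_half D sq htW γ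
  obtain ⟨C', d', e', hd', -, hes2, hes2', ⟨k₁, k₂, hres2⟩, hext', hlift'⟩ := exists_half D sq htW γ.symm
  have hss : γ.symm.symm = γ := IsoG.ext (by simp [IsoG.symm])
  obtain ⟨k, hk₁, hk₂⟩ := exists_mid D sq htW γ d e hes hes' hres d' e' hlift'
  obtain ⟨k', hk'₁, hk'₂⟩ := exists_mid D sq htW γ.symm d' e' hes2 hes2' hres2 d e (fun m n g g' hh =>
    hlift m n g g' (by rwa [hss] at hh))
  have hpb : ∀ {T : Over S} {ζ : Z ⟶ U} (x y : T ⟶ pullback tW ζ),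
      x ≫ pullback.fst tW ζ ≫ j = y ≫ pullback.fst tW ζ ≫ j →
      x ≫ pullback.fst tW ζ ≫ sW = y ≫ pullback.fst tW ζ ≫ sW →
      x ≫ pullback.snd tW ζ = y ≫ pullback.snd tW ζ → x = y := fun x y e₁ e₂ e₃ =>
    pullback.hom_ext (sq.hom_ext (by simpa using e₁) (by simpa using e₂)) e₃
  have hke' : k ≫ e' = d := hpb _ _ ((Category.assoc _ _ _).trans hk₂)
    (by rw [Category.assoc, hes2', ← Category.assoc, hk₁, hes'])
    (by rw [Category.assoc, hes2, ← Category.assoc, hk₁, hes])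
  have hk'e : k' ≫ e = d' := hpb _ _ ((Category.assoc _ _ _).trans hk'₂)
    (by rw [Category.assoc, hes', ← Category.assoc, hk'₁, hes2'])
    (by rw [Category.assoc, hes, ← Category.assoc, hk'₁, hes2])
  haveI : IsIso k := ⟨k',
    hext _ _ (by rw [Category.assoc, hk'₁, hke', Category.id_comp])
      (by rw [Category.assoc, hk'₂, ← Category.assoc, hk₁, Category.id_comp]),
    hext' _ _ (by rw [Category.assoc, hk₁, hk'e, Category.id_comp])
      (by rw [Category.assoc, hk₂, ← Category.assoc, hk'₁, Category.id_comp])⟩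
  haveI : IsIso k.left := inferInstanceAs (IsIso ((Over.forget S).map k))
  haveI := hd'
  refine ⟨C, d, e, hd, ?_, hes, hes', hlift⟩
  rw [← hk₁, Over.comp_left]
  infer_instance

theorem isoAtlas_smooth_t (ha : AlgSt.RepByAlgSpWith (AlgSp.LocP @Smooth) a) : Smooth D.t.left := by
  haveI : Smooth D.s.left := D.smooth_s ha
  obtain ⟨C, d, r, h, h', hd, hds, hres, hext, hlift⟩ := D.cover D.α.symm
  have key := congrArg (IsoG.res (𝟙 C) ((Category.id_comp _).trans h.symm)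
    ((Category.id_comp _).trans h'.symm)) hres
  rw [IsoG.res_res_eq (Category.id_comp r), IsoG.res_res_eq (Category.id_comp d)] at key
  obtain ⟨k, hk₁, hk₂⟩ := hlift r d h'.symm h.symm (by
    rw [IsoG.res_symm r rfl rfl D.α, key, IsoG.res_symm d h'.symm h.symm D.α]
    exact IsoG.ext (by simp [IsoG.symm]))
  have hkk : k ≫ k = 𝟙 C := hext _ _ (by rw [Category.assoc, hk₁, hk₂, Category.id_comp])
    (by rw [Category.assoc, hk₂, hk₁, Category.id_comp])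
  haveI : IsIso k := ⟨k, hkk, hkk⟩
  haveI : IsIso k.left := inferInstanceAs (IsIso ((Over.forget S).map k))
  haveI := hd
  haveI := hds
  haveI : Etale r.left := by rw [← hk₁, Over.comp_left]; infer_instance
  refine IsEtLocal.of_precomp (P := @Smooth) d.left D.t.left hd hds ?_
  rw [← Over.comp_left, ← h, Over.comp_left]
  infer_instance

theorem exists_unit {K : Type u} [Field K] [IsAlgClosed K] (str : Spec (CommRingCat.of K) ⟶ S)
    (u : Over.mk str ⟶ U) : ∃ e₀ : Over.mk str ⟶ D.R, e₀ ≫ D.s = u ∧ e₀ ≫ D.t = u := by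
  obtain ⟨C, d, r, h, h', hd, hds, -⟩ := D.cover (IsoG.refl (y := a) u)
  haveI := hd
  haveI := hds
  haveI : Nonempty ↥C.left := ⟨(d.left.surjective (IsLocalRing.closedPoint K)).choose⟩
  obtain ⟨w, hw⟩ := Boot.exists_section_of_nonempty (K := K) d.left
  let v : Over.mk str ⟶ C := Over.homMk w (by
    show w ≫ C.hom = str
    rw [← Over.w d, reassoc_of% hw]; rfl)
  have hv : v ≫ d = 𝟙 _ := Over.OverMorphism.ext hw
  exact ⟨v ≫ r, by rw [Category.assoc, h, reassoc_of% hv], by rw [Category.assoc, h', reassoc_of% hv]⟩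

end Groth.Agent.DMSlice
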